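import Cfsg.Agent.Chev.F4Graph.Data

/-!
The checks on the tables.
-/

set_option autoImplicit false
set_option maxHeartbeats 4000000
set_option maxRecDepth 100000

namespace Cfsg.Agent.F4Graph

open M4

theorem step0 : stepB gens0 gens1 reps0 hints0 = true := by decide +kernel
theorem step1 : stepB gens1 gens2 reps1 hints1 = true := by decide +kernel
theorem step2 : stepB gens2 gens3 reps2 hints2 = true := by decide +kernel
theorem step3 : stepB gens3 [] reps3 hints3 = true := by decide +kernel

/-- The row of a form times a matrix. -/
def rowMul (f : List ℤ) (X : M4) : List ℤ :=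
  match f with
  | [a, b, c, d] =>
    [a * X.e00 + b * X.e10 + c * X.e20 + d * X.e30, a * X.e01 + b * X.e11 + c * X.e21 + d * X.e31,
     a * X.e02 + b * X.e12 + c * X.e22 + d * X.e32, a * X.e03 + b * X.e13 + c * X.e23 + d * X.e33]
  | _ => []

/-- The rows `f, f X, f X², f X³`. -/
def orbitM (f : List ℤ) (X : M4) : M4 :=
  let g := rowMul f X
  let h := rowMul g X
  let l := rowMul h X
  ⟨f.getD 0 0, f.getD 1 0, f.getD 2 0, f.getD 3 0,
   g.getD 0 0, g.getD 1 0, g.getD 2 0, g.getD 3 0,
   h.getD 0 0, h.getD 1 0, h.getD 2 0, h.getD 3 0,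
   l.getD 0 0, l.getD 1 0, l.getD 2 0, l.getD 3 0⟩

/-- The check on one element. -/
def elB (X : M4) : Bool :=
  match table.find? fun p => p.1 == X.poly with
  | none => false
  | some p =>
    if p.2 == [8] || p.2 == [12] then
      (List.range 24).all fun s =>
        let n := (det4 (orbitM (forms.getD s []) X)).natAbs
        decide (0 < n) && decide (n < 13)
    else true

theorem els_check : els.all elB = true := by decide +kernel

/-- A bad pair of orders. -/
def badB (a b : ℕ) : Bool :=
  (decide (a < b) && (b == 8 || b == 12 || (b == 6 && (a == 3 || a == 4)) || (b == 4 && a == 3))) ||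
  (decide (b < a) && (a == 8 || a == 12 || (a == 6 && (b == 3 || b == 4)) || (a == 4 && b == 3)))

/-- The possible orders of `q` at a root of a cyclotomic factor. -/
def ordsOf : ℕ → List ℕ
  | 3 => [3, 1]
  | 6 => [6, 2]
  | d => [d]

theorem table_pairs : (table.all fun p => (p.2.flatMap ordsOf).all fun a =>
    (p.2.flatMap ordsOf).all fun b => !badB a b) = true := by decide +kernel

theorem table_regular : (table.all fun p => (p.2.flatMap ordsOf).all fun a =>
    !(a == 8 || a == 12) || (p.2 == [8] || p.2 == [12])) = true := by decide +kernel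

end Cfsg.Agent.F4Graph
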