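import Cfsg.Agent.Chev.F4Graph.Check

/-!
Every word in the simple reflections gives an element of the list, and its polynomial is in the
table.
-/

set_option autoImplicit false

namespace Cfsg.Agent.F4Graph

open M4

theorem toMat_one4 : one4.toMat = 1 := by
  ext i j; fin_cases i <;> fin_cases j <;> rfl

theorem one4_mul (X : M4) : one4.mul X = X :=
  toMat_injective (by rw [toMat_mul, toMat_one4, Matrix.one_mul])

theorem mul_one4 (X : M4) : X.mul one4 = X :=
  toMat_injective (by rw [toMat_mul, toMat_one4, Matrix.mul_one])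

theorem step_closed {gens gens' : List (Fin 4)} {reps : List (List (Fin 4))}
    {hints : List (List (ℕ × List (Fin 4)))} (h : stepB gens gens' reps hints = true)
    {P : List M4} (hP : ∀ g ∈ gens', ∀ x ∈ P, (gen g).mul x ∈ P) :
    ∀ g ∈ gens, ∀ x ∈ prodL (reps.map word) P, (gen g).mul x ∈ prodL (reps.map word) P := by
  have hword : ∀ w : List (Fin 4), (∀ i ∈ w, i ∈ gens') → ∀ x ∈ P, (word w).mul x ∈ P := by
    intro w
    induction w with
    | nil => intro _ x hx; rw [word, one4_mul]; exact hx
    | cons i w ih =>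
      intro hw x hx
      rw [word, M4.mul_assoc]
      exact hP i (hw i (by simp)) _ (ih (fun j hj => hw j (by simp [hj])) x hx)
  intro g hg x hx
  simp only [prodL, List.mem_flatMap, List.mem_map] at hx ⊢
  obtain ⟨a, ⟨r, hr, rfl⟩, y, hy, rfl⟩ := hx
  obtain ⟨gi, hgi, rfl⟩ := List.getElem_of_mem hg
  obtain ⟨j, hj, rfl⟩ := List.getElem_of_mem hr
  simp only [stepB, List.all_eq_true, List.mem_range] at h
  have h := h gi hgi j hj
  simp only [Bool.and_eq_true, decide_eq_true_eq, List.all_eq_true, List.contains_iff_mem] at h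
  obtain ⟨⟨h1, h2⟩, h3⟩ := h
  simp only [List.getD_eq_getElem?_getD] at h1 h2 h3
  rw [List.getElem?_eq_getElem hgi, List.getElem?_eq_getElem hj, List.getElem?_eq_getElem h1,
    Option.getD_some, Option.getD_some, Option.getD_some] at h3
  refine ⟨_, ⟨_, List.getElem_mem h1, rfl⟩, _, hword _ h2 y hy, ?_⟩
  rw [← M4.mul_assoc, ← M4.mul_assoc, h3]

theorem els4_closed : ∀ g ∈ ([] : List (Fin 4)), ∀ x ∈ els4, (gen g).mul x ∈ els4 := by simp

theorem els_closed (g : Fin 4) : ∀ x ∈ els, (gen g).mul x ∈ els :=
  step_closed step0 (step_closed step1 (step_closed step2 (step_closed step3 els4_closed))) g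
    (by fin_cases g <;> decide)

theorem one4_mem : one4 ∈ els := by decide +kernel

theorem word_mem : ∀ w : List (Fin 4), word w ∈ els := by
  intro w
  induction w with
  | nil => exact one4_mem
  | cons i w ih => exact els_closed i _ ih

/-- The orders of roots of unity attached to an element. -/
theorem exists_entry (w : List (Fin 4)) : ∃ p ∈ table, p.1 = (word w).poly ∧
    ((p.2 = [8] ∨ p.2 = [12]) → ∀ s < 24,
      0 < (det4 (orbitM (forms.getD s []) (word w))).natAbs ∧
        (det4 (orbitM (forms.getD s []) (word w))).natAbs < 13) := by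
  have h := List.all_eq_true.1 els_check _ (word_mem w)
  unfold elB at h
  split at h
  · simp at h
  · next p hp =>
    refine ⟨p, List.mem_of_find?_eq_some hp, by simpa using List.find?_some hp, fun h8 s hs => ?_⟩
    rw [if_pos (by simpa using h8)] at h
    simpa using List.all_eq_true.1 h s (List.mem_range.2 hs)

/-- The value of the polynomial of `d`. -/
def phiEv {R : Type*} [CommRing R] : ℕ → R → R
  | 1, x => 1 - x
  | 2, x => 1 + x
  | 3, x => 1 + x + x ^ 2
  | 4, x => 1 + x ^ 2
  | 6, x => 1 - x + x ^ 2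
  | 8, x => 1 + x ^ 4
  | 12, x => 1 - x ^ 2 + x ^ 4
  | _, _ => 1

theorem table_ev {R : Type*} [CommRing R] (x : R) : ∀ p ∈ table,
    ev p.1 x = (p.2.map fun d => phiEv d x).prod := by
  intro p hp
  simp only [table, List.mem_cons, List.not_mem_nil, or_false] at hp
  rcases hp with rfl | rfl | rfl | rfl | rfl | rfl | rfl | rfl | rfl | rfl | rfl | rfl | rfl |
    rfl | rfl | rfl | rfl
  all_goals (simp [ev, phiEv]; try ring)

end Cfsg.Agent.F4Graph
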