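import Cfsg.Agent.Chev.F4Graph.M4

/-!
The Weyl group of type F4 as a product of coset representatives along a chain of parabolic
subgroups; the characteristic polynomials of its elements.
-/

set_option autoImplicit false

namespace Cfsg.Agent.F4Graph

/-- The simple reflections. -/
def gen : Fin 4 → M4
  | 0 => ⟨-1, 1, 0, 0, 0, 1, 0, 0, 0, 0, 1, 0, 0, 0, 0, 1⟩
  | 1 => ⟨1, 0, 0, 0, 1, -1, 1, 0, 0, 0, 1, 0, 0, 0, 0, 1⟩
  | 2 => ⟨1, 0, 0, 0, 0, 1, 0, 0, 0, 2, -1, 1, 0, 0, 0, 1⟩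
  | 3 => ⟨1, 0, 0, 0, 0, 1, 0, 0, 0, 0, 1, 0, 0, 0, 1, -1⟩

/-- The identity. -/
def one4 : M4 := ⟨1, 0, 0, 0, 0, 1, 0, 0, 0, 0, 1, 0, 0, 0, 0, 1⟩

/-- The matrix of a word. -/
def word : List (Fin 4) → M4
  | [] => one4
  | i :: w => (gen i).mul (word w)

/-- The products of a representative and an element of a list. -/
def prodL (A P : List M4) : List M4 := A.flatMap fun a => P.map a.mul

/-- The representatives at level 0. -/
def reps0 : List (List (Fin 4)) :=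
  [[],
   [0],
   [1, 0],
   [2, 1, 0],
   [1, 2, 1, 0],
   [3, 2, 1, 0],
   [0, 1, 2, 1, 0],
   [1, 3, 2, 1, 0],
   [0, 1, 3, 2, 1, 0],
   [2, 1, 3, 2, 1, 0],
   [0, 2, 1, 3, 2, 1, 0],
   [1, 2, 1, 3, 2, 1, 0],
   [0, 1, 2, 1, 3, 2, 1, 0],
   [1, 0, 2, 1, 3, 2, 1, 0],
   [0, 1, 0, 2, 1, 3, 2, 1, 0],
   [2, 1, 0, 2, 1, 3, 2, 1, 0],
   [0, 2, 1, 0, 2, 1, 3, 2, 1, 0],
   [3, 2, 1, 0, 2, 1, 3, 2, 1, 0],
   [0, 3, 2, 1, 0, 2, 1, 3, 2, 1, 0],
   [1, 0, 2, 1, 0, 2, 1, 3, 2, 1, 0],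
   [1, 0, 3, 2, 1, 0, 2, 1, 3, 2, 1, 0],
   [2, 1, 0, 3, 2, 1, 0, 2, 1, 3, 2, 1, 0],
   [1, 2, 1, 0, 3, 2, 1, 0, 2, 1, 3, 2, 1, 0],
   [0, 1, 2, 1, 0, 3, 2, 1, 0, 2, 1, 3, 2, 1, 0]]

/-- The moves at level 0. -/
def hints0 : List (List (ℕ × List (Fin 4))) :=
  [[(1, []), (0, []), (2, [1]), (3, [1]), (6, []), (5, [1]), (4, []), (8, []), (7, []), (10, []), (9, []), (12, []), (11, []), (14, []), (13, []), (16, []), (15, []), (18, []), (17, []), (19, [1]), (20, [1]), (21, [1]), (23, []), (22, [])],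
   [(0, [1]), (2, []), (1, []), (4, []), (3, []), (7, []), (6, [1]), (5, []), (8, [1]), (11, []), (13, []), (9, []), (14, []), (10, []), (12, []), (15, [1]), (19, []), (17, [1]), (20, []), (16, []), (18, []), (22, []), (21, []), (23, [1])],
   [(0, [2]), (1, [2]), (3, []), (2, []), (4, [2]), (5, [3]), (6, [2]), (9, []), (10, []), (7, []), (8, []), (11, [3]), (12, [3]), (15, []), (16, []), (13, []), (14, []), (17, [2]), (18, [2]), (19, [3]), (21, []), (20, []), (22, [2]), (23, [2])],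
   [(0, [3]), (1, [3]), (2, [3]), (5, []), (7, []), (3, []), (8, []), (4, []), (6, []), (9, [2]), (10, [2]), (11, [2]), (12, [2]), (13, [2]), (14, [2]), (17, []), (18, []), (15, []), (16, []), (20, []), (19, []), (21, [3]), (22, [3]), (23, [3])]]

/-- The generators at level 0. -/
def gens0 : List (Fin 4) := [0, 1, 2, 3]

/-- The representatives at level 1. -/
def reps1 : List (List (Fin 4)) :=
  [[],
   [3],
   [2, 3],
   [1, 2, 3],
   [2, 1, 2, 3],
   [3, 2, 1, 2, 3]]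

/-- The moves at level 1. -/
def hints1 : List (List (ℕ × List (Fin 4))) :=
  [[(0, [1]), (1, [1]), (3, []), (2, []), (4, [1]), (5, [1])],
   [(0, [2]), (2, []), (1, []), (4, []), (3, []), (5, [2])],
   [(1, []), (0, []), (2, [2]), (3, [2]), (5, []), (4, [])]]

/-- The generators at level 1. -/
def gens1 : List (Fin 4) := [1, 2, 3]

/-- The representatives at level 2. -/
def reps2 : List (List (Fin 4)) :=
  [[],
   [1],
   [2, 1],
   [1, 2, 1]]

/-- The moves at level 2. -/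
def hints2 : List (List (ℕ × List (Fin 4))) :=
  [[(1, []), (0, []), (3, []), (2, [])],
   [(0, [2]), (2, []), (1, []), (3, [2])]]

/-- The generators at level 2. -/
def gens2 : List (Fin 4) := [1, 2]

/-- The representatives at level 3. -/
def reps3 : List (List (Fin 4)) :=
  [[],
   [2]]

/-- The moves at level 3. -/
def hints3 : List (List (ℕ × List (Fin 4))) :=
  [[(1, []), (0, [])]]

/-- The generators at level 3. -/
def gens3 : List (Fin 4) := [2]

/-- The elements of the smallest level. -/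
def els4 : List M4 := [one4]

/-- The elements of level three. -/
def els3 : List M4 := prodL (reps3.map word) els4

/-- The elements of level two. -/
def els2 : List M4 := prodL (reps2.map word) els3

/-- The elements of level one. -/
def els1 : List M4 := prodL (reps1.map word) els2

/-- The elements of the group. -/
def els : List M4 := prodL (reps0.map word) els1

/-- One level of closure. -/
def stepB (gens gens' : List (Fin 4)) (reps : List (List (Fin 4)))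
    (hints : List (List (ℕ × List (Fin 4)))) : Bool :=
  (List.range gens.length).all fun gi => (List.range reps.length).all fun j =>
    let p := (hints.getD gi []).getD j (0, [])
    decide (p.1 < reps.length) && (p.2.all fun i => gens'.contains i) &&
      decide ((gen (gens.getD gi 0)).mul (word (reps.getD j [])) =
        (word (reps.getD p.1 [])).mul (word p.2))

/-- The possible polynomials `det (1 - x M)` with their orders of roots of unity. -/
def table : List (List ℤ × List ℕ) :=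
  [([-4, 6, -4, 1], [1, 1, 1, 1]),
   ([-2, 0, 2, -1], [1, 1, 1, 2]),
   ([0, -2, 0, 1], [1, 1, 2, 2]),
   ([-1, 0, -1, 1], [1, 1, 3]),
   ([-2, 2, -2, 1], [1, 1, 4]),
   ([2, 0, -2, -1], [1, 2, 2, 2]),
   ([1, 0, -1, -1], [1, 2, 3]),
   ([0, 0, 0, -1], [1, 2, 4]),
   ([-1, 0, 1, -1], [1, 2, 6]),
   ([4, 6, 4, 1], [2, 2, 2, 2]),
   ([2, 2, 2, 1], [2, 2, 4]),
   ([1, 0, 1, 1], [2, 2, 6]),
   ([2, 3, 2, 1], [3, 3]),
   ([0, 2, 0, 1], [4, 4]),
   ([-2, 3, -2, 1], [6, 6]),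
   ([0, 0, 0, 1], [8]),
   ([0, -1, 0, 1], [12])]

/-- The roots as linear forms. -/
def forms : List (List ℤ) :=
  [[0, 0, 0, -1],
   [0, 0, -1, 1],
   [0, -2, 1, 0],
   [-1, 0, 0, 0],
   [-2, 2, -1, 0],
   [-2, 0, 1, -1],
   [-2, 0, 0, 1],
   [1, -1, 0, 0],
   [0, 1, -1, 0],
   [0, -1, 1, -1],
   [0, -1, 0, 1],
   [-1, 1, 0, -1],
   [-1, 1, -1, 1],
   [-1, -1, 1, 0],
   [-2, 1, 0, 0],
   [2, 0, -1, 0],
   [2, -2, 1, -1],
   [2, -2, 0, 1],
   [1, 0, 0, -1],
   [1, 0, -1, 1],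
   [1, -2, 1, 0],
   [0, 2, -1, -1],
   [0, 2, -2, 1],
   [0, 0, 1, -2],
   [0, 0, -1, 2],
   [0, -2, 2, -1],
   [0, -2, 1, 1],
   [-1, 2, -1, 0],
   [-1, 0, 1, -1],
   [-1, 0, 0, 1],
   [-2, 2, 0, -1],
   [-2, 2, -1, 1],
   [-2, 0, 1, 0],
   [2, -1, 0, 0],
   [1, 1, -1, 0],
   [1, -1, 1, -1],
   [1, -1, 0, 1],
   [0, 1, 0, -1],
   [0, 1, -1, 1],
   [0, -1, 1, 0],
   [-1, 1, 0, 0],
   [2, 0, 0, -1],
   [2, 0, -1, 1],
   [2, -2, 1, 0],
   [1, 0, 0, 0],
   [0, 2, -1, 0],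
   [0, 0, 1, -1],
   [0, 0, 0, 1]]

/-- The index of a negative root with the same line as a given one. -/
def lineIdx : List ℕ :=
  [0, 1, 2, 3, 4, 5, 6, 7, 8, 9, 10, 11, 12, 13, 14, 15, 16, 17, 18, 19, 20, 21, 22, 23, 23, 22, 21, 20, 19, 18, 17, 16, 15, 14, 13, 12, 11, 10, 9, 8, 7, 6, 5, 4, 3, 2, 1, 0]

end Cfsg.Agent.F4Graph
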