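import Mathlib.LinearAlgebra.Matrix.Determinant.Basic
import Mathlib.Tactic

/-!
Four by four integer matrices for computations in the Weyl group of type F4.
-/

set_option autoImplicit false

namespace Cfsg.Agent.F4Graph

/-- Four by four integer matrices. -/
structure M4 where
  e00 : ℤ
  e01 : ℤ
  e02 : ℤ
  e03 : ℤ
  e10 : ℤ
  e11 : ℤ
  e12 : ℤ
  e13 : ℤ
  e20 : ℤ
  e21 : ℤ
  e22 : ℤ
  e23 : ℤ
  e30 : ℤ
  e31 : ℤ
  e32 : ℤ
  e33 : ℤ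
deriving DecidableEq

namespace M4

/-- Product. -/
def mul (X Y : M4) : M4 :=
  ⟨X.e00 * Y.e00 + X.e01 * Y.e10 + X.e02 * Y.e20 + X.e03 * Y.e30,
   X.e00 * Y.e01 + X.e01 * Y.e11 + X.e02 * Y.e21 + X.e03 * Y.e31,
   X.e00 * Y.e02 + X.e01 * Y.e12 + X.e02 * Y.e22 + X.e03 * Y.e32,
   X.e00 * Y.e03 + X.e01 * Y.e13 + X.e02 * Y.e23 + X.e03 * Y.e33,
   X.e10 * Y.e00 + X.e11 * Y.e10 + X.e12 * Y.e20 + X.e13 * Y.e30,
   X.e10 * Y.e01 + X.e11 * Y.e11 + X.e12 * Y.e21 + X.e13 * Y.e31,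
   X.e10 * Y.e02 + X.e11 * Y.e12 + X.e12 * Y.e22 + X.e13 * Y.e32,
   X.e10 * Y.e03 + X.e11 * Y.e13 + X.e12 * Y.e23 + X.e13 * Y.e33,
   X.e20 * Y.e00 + X.e21 * Y.e10 + X.e22 * Y.e20 + X.e23 * Y.e30,
   X.e20 * Y.e01 + X.e21 * Y.e11 + X.e22 * Y.e21 + X.e23 * Y.e31,
   X.e20 * Y.e02 + X.e21 * Y.e12 + X.e22 * Y.e22 + X.e23 * Y.e32,
   X.e20 * Y.e03 + X.e21 * Y.e13 + X.e22 * Y.e23 + X.e23 * Y.e33,
   X.e30 * Y.e00 + X.e31 * Y.e10 + X.e32 * Y.e20 + X.e33 * Y.e30,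
   X.e30 * Y.e01 + X.e31 * Y.e11 + X.e32 * Y.e21 + X.e33 * Y.e31,
   X.e30 * Y.e02 + X.e31 * Y.e12 + X.e32 * Y.e22 + X.e33 * Y.e32,
   X.e30 * Y.e03 + X.e31 * Y.e13 + X.e32 * Y.e23 + X.e33 * Y.e33⟩

/-- The matrix. -/
def toMat (X : M4) : Matrix (Fin 4) (Fin 4) ℤ :=
  !![X.e00, X.e01, X.e02, X.e03; X.e10, X.e11, X.e12, X.e13; X.e20, X.e21, X.e22, X.e23; X.e30, X.e31, X.e32, X.e33]

theorem toMat_mul (X Y : M4) : (X.mul Y).toMat = X.toMat * Y.toMat := by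
  ext i j
  fin_cases i <;> fin_cases j <;> simp [toMat, mul, Matrix.mul_apply, Fin.sum_univ_succ] <;> ring

theorem toMat_injective : Function.Injective toMat := by
  intro X Y h
  obtain ⟨h00, h01, h02, h03, h10, h11, h12, h13, h20, h21, h22, h23, h30, h31, h32, h33⟩ :=
    (⟨congrFun (congrFun h 0) 0, congrFun (congrFun h 0) 1, congrFun (congrFun h 0) 2, congrFun (congrFun h 0) 3, congrFun (congrFun h 1) 0, congrFun (congrFun h 1) 1, congrFun (congrFun h 1) 2, congrFun (congrFun h 1) 3, congrFun (congrFun h 2) 0, congrFun (congrFun h 2) 1, congrFun (congrFun h 2) 2, congrFun (congrFun h 2) 3, congrFun (congrFun h 3) 0, congrFun (congrFun h 3) 1, congrFun (congrFun h 3) 2, congrFun (congrFun h 3) 3⟩ :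
      X.e00 = Y.e00 ∧
      X.e01 = Y.e01 ∧
      X.e02 = Y.e02 ∧
      X.e03 = Y.e03 ∧
      X.e10 = Y.e10 ∧
      X.e11 = Y.e11 ∧
      X.e12 = Y.e12 ∧
      X.e13 = Y.e13 ∧
      X.e20 = Y.e20 ∧
      X.e21 = Y.e21 ∧
      X.e22 = Y.e22 ∧
      X.e23 = Y.e23 ∧
      X.e30 = Y.e30 ∧
      X.e31 = Y.e31 ∧
      X.e32 = Y.e32 ∧
      X.e33 = Y.e33)
  cases X; cases Y
  simp_all

theorem mul_assoc (X Y Z : M4) : (X.mul Y).mul Z = X.mul (Y.mul Z) :=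
  toMat_injective (by simp only [toMat_mul, Matrix.mul_assoc])

/-- The determinant. -/
def det4 (X : M4) : ℤ :=
  (X.e00 * (X.e11 * (X.e22 * X.e33 - X.e23 * X.e32) - X.e12 * (X.e21 * X.e33 - X.e23 * X.e31) + X.e13 * (X.e21 * X.e32 - X.e22 * X.e31)) - X.e01 * (X.e10 * (X.e22 * X.e33 - X.e23 * X.e32) - X.e12 * (X.e20 * X.e33 - X.e23 * X.e30) + X.e13 * (X.e20 * X.e32 - X.e22 * X.e30)) + X.e02 * (X.e10 * (X.e21 * X.e33 - X.e23 * X.e31) - X.e11 * (X.e20 * X.e33 - X.e23 * X.e30) + X.e13 * (X.e20 * X.e31 - X.e21 * X.e30)) - X.e03 * (X.e10 * (X.e21 * X.e32 - X.e22 * X.e31) - X.e11 * (X.e20 * X.e32 - X.e22 * X.e30) + X.e12 * (X.e20 * X.e31 - X.e21 * X.e30)))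

/-- The coefficients of `det (1 - x X)` after the constant one. -/
def poly (X : M4) : List ℤ :=
  [-(X.e00 + X.e11 + X.e22 + X.e33),
   (X.e00 * X.e11 - X.e01 * X.e10) + (X.e00 * X.e22 - X.e02 * X.e20) + (X.e00 * X.e33 - X.e03 * X.e30) + (X.e11 * X.e22 - X.e12 * X.e21) + (X.e11 * X.e33 - X.e13 * X.e31) + (X.e22 * X.e33 - X.e23 * X.e32),
   -((X.e00 * (X.e11 * X.e22 - X.e12 * X.e21) - X.e01 * (X.e10 * X.e22 - X.e12 * X.e20) + X.e02 * (X.e10 * X.e21 - X.e11 * X.e20)) + (X.e00 * (X.e11 * X.e33 - X.e13 * X.e31) - X.e01 * (X.e10 * X.e33 - X.e13 * X.e30) + X.e03 * (X.e10 * X.e31 - X.e11 * X.e30)) + (X.e00 * (X.e22 * X.e33 - X.e23 * X.e32) - X.e02 * (X.e20 * X.e33 - X.e23 * X.e30) + X.e03 * (X.e20 * X.e32 - X.e22 * X.e30)) + (X.e11 * (X.e22 * X.e33 - X.e23 * X.e32) - X.e12 * (X.e21 * X.e33 - X.e23 * X.e31) + X.e13 * (X.e21 * X.e32 - X.e22 * X.e31))),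
   det4 X]

theorem det_fin_four {R : Type*} [CommRing R] (A : Matrix (Fin 4) (Fin 4) R) :
    A.det =
      A 0 0 * A 1 1 * A 2 2 * A 3 3
        - A 0 0 * A 1 1 * A 2 3 * A 3 2
        - A 0 0 * A 1 2 * A 2 1 * A 3 3
        + A 0 0 * A 1 2 * A 2 3 * A 3 1
        + A 0 0 * A 1 3 * A 2 1 * A 3 2
        - A 0 0 * A 1 3 * A 2 2 * A 3 1
        - A 0 1 * A 1 0 * A 2 2 * A 3 3
        + A 0 1 * A 1 0 * A 2 3 * A 3 2
        + A 0 1 * A 1 2 * A 2 0 * A 3 3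
        - A 0 1 * A 1 2 * A 2 3 * A 3 0
        - A 0 1 * A 1 3 * A 2 0 * A 3 2
        + A 0 1 * A 1 3 * A 2 2 * A 3 0
        + A 0 2 * A 1 0 * A 2 1 * A 3 3
        - A 0 2 * A 1 0 * A 2 3 * A 3 1
        - A 0 2 * A 1 1 * A 2 0 * A 3 3
        + A 0 2 * A 1 1 * A 2 3 * A 3 0
        + A 0 2 * A 1 3 * A 2 0 * A 3 1
        - A 0 2 * A 1 3 * A 2 1 * A 3 0
        - A 0 3 * A 1 0 * A 2 1 * A 3 2
        + A 0 3 * A 1 0 * A 2 2 * A 3 1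
        + A 0 3 * A 1 1 * A 2 0 * A 3 2
        - A 0 3 * A 1 1 * A 2 2 * A 3 0
        - A 0 3 * A 1 2 * A 2 0 * A 3 1
        + A 0 3 * A 1 2 * A 2 1 * A 3 0 := by
  rw [Matrix.det_succ_row_zero]
  simp [Fin.sum_univ_succ, Matrix.det_fin_three, Fin.succAbove]
  ring

theorem det_toMat_cast {R : Type*} [CommRing R] (X : M4) :
    (X.toMat.map (Int.cast : ℤ → R)).det = (X.det4 : R) := by
  simp [det_fin_four, toMat, det4]
  ring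

/-- Evaluation of `1 + a x + b x² + c x³ + d x⁴`. -/
def ev {R : Type*} [CommRing R] : List ℤ → R → R
  | [], _ => 1
  | [a], x => 1 + a * x
  | [a, b], x => 1 + a * x + b * x ^ 2
  | [a, b, c], x => 1 + a * x + b * x ^ 2 + c * x ^ 3
  | a :: b :: c :: d :: _, x => 1 + a * x + b * x ^ 2 + c * x ^ 3 + d * x ^ 4

theorem det_one_sub_smul {R : Type*} [CommRing R] (X : M4) (x : R) :
    (1 - x • X.toMat.map (Int.cast : ℤ → R)).det = ev X.poly x := by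
  simp [det_fin_four, toMat, poly, det4, ev, Matrix.one_apply]
  ring

end M4

end Cfsg.Agent.F4Graph
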