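import Cfsg.Agent.Chev.F4Graph.Torus
import Cfsg.Agent.Chev.F4Graph.Closure
import Cfsg.Agent.Chev.Semisimple.AlcoveF4
import Mathlib.LinearAlgebra.Matrix.ToLinearEquiv

/-!
Adjacency in the prime graph of F4 over a finite field of even order.
-/

set_option autoImplicit false

namespace Cfsg.Agent.F4Graph

open Cfsg.Lie Cfsg.Agent.Chev Cfsg.Agent.Chev.SS
open scoped MatrixGroups

universe u

theorem wMat_gen_entries : ((List.finRange chevF4.rank).all fun i =>
    (List.finRange chevF4.rank).all fun a => (List.finRange chevF4.rank).all fun b =>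
      decide (wMat chevF4 [i] a b = (gen i).toMat a b)) = true := by
  decide +kernel

theorem wMat_gen (i : Fin 4) : wMat chevF4 [i] = (gen i).toMat :=
  Matrix.ext fun a b => of_decide_eq_true (List.all_eq_true.1 (List.all_eq_true.1
    (List.all_eq_true.1 wMat_gen_entries i (List.mem_finRange i)) a (List.mem_finRange a))
      b (List.mem_finRange b))

theorem wMat_eq : ∀ w : List (Fin 4), wMat chevF4 w = (word w).toMat := by
  intro w
  induction w with
  | nil => exact wMat_nil.trans toMat_one4.symm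
  | cons i w ih =>
    rw [word, M4.toMat_mul, ← ih, ← wMat_gen]
    exact wMat_append (D := chevF4) [i] w

theorem mulVec_conv {R : Type*} [CommRing R] (w : List (Fin 4)) (x : R) (v : Fin 4 → R) :
    x • ((wMat chevF4 w).map (Int.cast : ℤ → R)).mulVec v =
      x • ((word w).toMat.map (Int.cast : ℤ → R)).mulVec v :=
  congrArg (fun M : Matrix (Fin 4) (Fin 4) ℤ => x • (M.map (Int.cast : ℤ → R)).mulVec v) (wMat_eq w)

theorem forms_eq : ∀ s : Fin chevF4.nroots, forms.getD (s : ℕ) [] =
    [chevF4.cartan 0 s, chevF4.cartan 1 s, chevF4.cartan 2 s, chevF4.cartan 3 s] := by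
  decide +kernel

theorem lineIdx_spec : ∀ s : Fin chevF4.nroots, lineIdx.getD (s : ℕ) 0 < 24 ∧
    (forms.getD (lineIdx.getD (s : ℕ) 0) [] = forms.getD (s : ℕ) [] ∨
      forms.getD (lineIdx.getD (s : ℕ) 0) [] = (forms.getD (s : ℕ) []).map fun x => -x) := by
  decide +kernel

/-- The possible orders. -/
def ordList : List ℕ := [1, 2, 3, 4, 6, 8, 12]

theorem table_ords : (table.all fun p => p.2.all fun d => ordList.contains d) = true := by
  decide +kernel

/-- Witnesses for the pairs which are not bad. -/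
def witnesses : List (List (Fin 4) × List ℕ) :=
  [([0, 1, 2], [1, 2, 6]), ([0, 1, 2, 1, 2], [1, 2, 4]), ([0, 1, 3], [1, 2, 3]),
   ([0, 1, 2, 1, 2, 3], [8]), ([0, 1, 2, 3], [12])]

theorem witnesses_cover : ∀ a ∈ ordList, ∀ b ∈ ordList, badB a b = false →
    ∃ p ∈ witnesses, a ∈ p.2 ∧ b ∈ p.2 := by decide +kernel

theorem witnesses_table : ∀ p ∈ witnesses, ((word p.1).poly, p.2) ∈ table := by decide +kernel

/-- Twisting elements with a fixed root, for the orders at least two. -/
def fixedWitnesses : List (List (Fin 4) × List ℕ × ℕ) :=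
  [([0, 1, 2], [1, 2, 6], 47), ([0, 1, 2, 1, 2], [1, 2, 4], 47), ([0, 1], [1, 1, 3], 24)]

theorem fixedWitnesses_cover : ∀ a ∈ ([2, 3, 4, 6] : List ℕ),
    ∃ p ∈ fixedWitnesses, a ∈ p.2.1 := by decide +kernel

theorem fixedWitnesses_spec : ∀ p ∈ fixedWitnesses, ((word p.1).poly, p.2.1) ∈ table ∧
    p.2.2 < chevF4.nroots ∧ rowMul (forms.getD p.2.2 []) (word p.1) = forms.getD p.2.2 [] ∧
      wStep chevF4 p.1 p.2.2 = p.2.2 := by decide +kernel

theorem simple_zero : chevF4.simple 0 < chevF4.nroots ∧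
    chevF4.cartan 2 (chevF4.simple 0) = 0 ∧ wStep chevF4 [] (chevF4.simple 0) = chevF4.simple 0 := by
  decide +kernel

section Orders

variable {r : ℕ} [Fact r.Prime]

theorem two_ne_zero' (hr : r ≠ 2) : (2 : ZMod r) ≠ 0 := fun h =>
  hr ((Nat.prime_dvd_prime_iff_eq (Fact.out : r.Prime) Nat.prime_two).1
    ((ZMod.natCast_eq_zero_iff 2 r).1 (by exact_mod_cast h)))

theorem orderOf_eq_of_divisors {x : ZMod r} {n : ℕ} (hn : 0 < n) (h : x ^ n = 1)
    (hne : ∀ m < n, m ∣ n → 0 < m → x ^ m ≠ 1) : orderOf x = n := by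
  rcases (Nat.le_of_dvd hn (orderOf_dvd_of_pow_eq_one h)).lt_or_eq with h2 | h2
  · exact absurd (pow_orderOf_eq_one x) (hne _ h2 (orderOf_dvd_of_pow_eq_one h)
      (Nat.pos_of_dvd_of_pos (orderOf_dvd_of_pow_eq_one h) hn))
  · exact h2

theorem orderOf_of_phiEv (hr : r ≠ 2) {x : ZMod r} {d : ℕ} (hd : d ∈ ordList)
    (h : phiEv d x = 0) : orderOf x ∈ ordsOf d := by
  have h2 := two_ne_zero' hr
  simp only [ordList, List.mem_cons, List.not_mem_nil, or_false] at hd
  rcases hd with rfl | rfl | rfl | rfl | rfl | rfl | rfl <;> simp only [phiEv] at h <;>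
    simp only [ordsOf, List.mem_cons, List.not_mem_nil, or_false]
  · rw [orderOf_eq_one_iff]; linear_combination -h
  · refine orderOf_eq_of_divisors two_pos (by linear_combination (x - 1) * h)
      fun m hm _ h0 e => h2 ?_
    obtain rfl : m = 1 := by omega
    linear_combination h - e
  · have h3 : x ^ 3 = 1 := by linear_combination (x - 1) * h
    rcases (Nat.dvd_prime Nat.prime_three).1 (orderOf_dvd_of_pow_eq_one h3) with e | e
    · exact Or.inr e
    · exact Or.inl e
  · refine orderOf_eq_of_divisors (by norm_num) (by linear_combination (x ^ 2 - 1) * h)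
      fun m hm hdvd h0 e => h2 ?_
    have he : x ^ 2 = 1 := by
      interval_cases m
      · linear_combination (x + 1) * e
      · exact e
      · norm_num at hdvd
    linear_combination h - he
  · by_cases h1 : x = -1
    · right
      refine orderOf_eq_of_divisors two_pos (by rw [h1]; ring) fun m hm _ h0 e => h2 ?_
      obtain rfl : m = 1 := by omega
      linear_combination h1 - e
    · left
      have h3 : x ^ 3 = -1 := by linear_combination (x + 1) * h
      refine orderOf_eq_of_divisors (by norm_num) (by linear_combination (x ^ 3 - 1) * h3)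
        fun m hm hdvd h0 e => ?_
      interval_cases m
      · exact h2 (by linear_combination h3 - (x ^ 2 + x + 1) * e)
      · exact h1 (by linear_combination h3 - x * e)
      · exact h2 (by linear_combination h3 - e)
      · norm_num at hdvd
      · norm_num at hdvd
  · refine orderOf_eq_of_divisors (by norm_num) (by linear_combination (x ^ 4 - 1) * h)
      fun m hm hdvd h0 e => h2 ?_
    have he : x ^ 4 = 1 := by
      interval_cases m
      · linear_combination (x ^ 3 + x ^ 2 + x + 1) * e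
      · linear_combination (x ^ 2 + 1) * e
      · norm_num at hdvd
      · exact e
      all_goals norm_num at hdvd
    linear_combination h - he
  · have h6 : x ^ 6 = -1 := by linear_combination (x ^ 2 + 1) * h
    refine orderOf_eq_of_divisors (by norm_num) (by linear_combination (x ^ 6 - 1) * h6)
      fun m hm hdvd h0 e => h2 ?_
    by_cases h4 : x ^ 4 = 1
    · -- then `x ^ 2 = -1`, so `3 = 0` and minus one would be a square
      have hx2 : x ^ 2 = -1 := by linear_combination h6 - x ^ 2 * h4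
      have h3 : (3 : ZMod r) = 0 := by linear_combination h - (x ^ 2 - 2) * hx2
      have hr3 : r = 3 := (Nat.prime_dvd_prime_iff_eq (Fact.out : r.Prime) Nat.prime_three).1
        ((ZMod.natCast_eq_zero_iff 3 r).1 (by exact_mod_cast h3))
      subst hr3
      have hp := ZMod.pow_card x
      rcases mul_eq_zero.1 (show (2 : ZMod 3) * x = 0 by linear_combination x * hx2 - hp) with h0 | h0
      · exact absurd h0 h2
      · rw [h0] at hx2; exact absurd (show (2 : ZMod 3) = 0 by linear_combination 2 * hx2) h2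
    · interval_cases m
      · exact absurd (by linear_combination (x ^ 3 + x ^ 2 + x + 1) * e) h4
      · exact absurd (by linear_combination (x ^ 2 + 1) * e) h4
      · linear_combination h6 - (x ^ 3 + 1) * e
      · exact absurd e h4
      · norm_num at hdvd
      · linear_combination h6 - e
      all_goals norm_num at hdvd

theorem phiEv_of_orderOf {x : ZMod r} {d : ℕ} (hd : d ∈ ordList) (h : orderOf x = d) :
    phiEv d x = 0 := by
  have hp : x ^ d = 1 := h ▸ pow_orderOf_eq_one x
  have hne : ∀ m : ℕ, 0 < m → m < d → x ^ m ≠ 1 := fun m h1 h2 e => by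
    have := Nat.le_of_dvd h1 (orderOf_dvd_of_pow_eq_one e); omega
  simp only [ordList, List.mem_cons, List.not_mem_nil, or_false] at hd
  rcases hd with rfl | rfl | rfl | rfl | rfl | rfl | rfl <;> simp only [phiEv]
  · rw [pow_one] at hp; linear_combination -hp
  · rcases mul_eq_zero.1 (show (x - 1) * (1 + x) = 0 by linear_combination hp) with e | e
    · exact absurd (by linear_combination e) (hne 1 (by norm_num) (by norm_num))
    · exact e
  · rcases mul_eq_zero.1 (show (x - 1) * (1 + x + x ^ 2) = 0 by linear_combination hp) with e | e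
    · exact absurd (by linear_combination e) (hne 1 (by norm_num) (by norm_num))
    · exact e
  · rcases mul_eq_zero.1 (show (x ^ 2 - 1) * (1 + x ^ 2) = 0 by linear_combination hp) with e | e
    · exact absurd (by linear_combination e) (hne 2 (by norm_num) (by norm_num))
    · exact e
  · rcases mul_eq_zero.1 (show (x ^ 3 - 1) * ((1 + x) * (1 - x + x ^ 2)) = 0 by
      linear_combination hp) with e | e
    · exact absurd (by linear_combination e) (hne 3 (by norm_num) (by norm_num))
    · rcases mul_eq_zero.1 e with e | e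
      · exact absurd (by linear_combination (x - 1) * e) (hne 2 (by norm_num) (by norm_num))
      · exact e
  · rcases mul_eq_zero.1 (show (x ^ 4 - 1) * (1 + x ^ 4) = 0 by linear_combination hp) with e | e
    · exact absurd (by linear_combination e) (hne 4 (by norm_num) (by norm_num))
    · exact e
  · rcases mul_eq_zero.1 (show (x ^ 6 - 1) * ((x ^ 2 + 1) * (1 - x ^ 2 + x ^ 4)) = 0 by
      linear_combination hp) with e | e
    · exact absurd (by linear_combination e) (hne 6 (by norm_num) (by norm_num))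
    · rcases mul_eq_zero.1 e with e | e
      · exact absurd (by linear_combination (x ^ 2 - 1) * e) (hne 4 (by norm_num) (by norm_num))
      · exact e

theorem ev_root {x : ZMod r} {w : List (Fin 4)} {ds : List ℕ}
    (h : ((word w).poly, ds) ∈ table) :
    (1 - x • (word w).toMat.map (Int.cast : ℤ → ZMod r)).det = (ds.map fun d => phiEv d x).prod :=
  (M4.det_one_sub_smul _ _).trans (table_ev x _ h)

theorem exists_vec {x : ZMod r} {w : List (Fin 4)} {ds : List ℕ}
    (h : ((word w).poly, ds) ∈ table) {d : ℕ} (hd : d ∈ ds) (hdo : orderOf x = d) :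
    ∃ v : Fin 4 → ZMod r, v ≠ 0 ∧
      x • ((wMat chevF4 w).map (Int.cast : ℤ → ZMod r)).mulVec v = v := by
  have hmem : d ∈ ordList :=
    List.contains_iff_mem.1 (List.all_eq_true.1 (List.all_eq_true.1 table_ords _ h) d hd)
  have h0 : (1 - x • (word w).toMat.map (Int.cast : ℤ → ZMod r)).det = 0 := by
    rw [ev_root h, List.prod_eq_zero_iff]
    exact List.mem_map.2 ⟨d, hd, phiEv_of_orderOf hmem hdo⟩
  obtain ⟨v, hv, e⟩ := Matrix.exists_mulVec_eq_zero_iff.2 h0
  refine ⟨v, hv, ?_⟩
  rw [Matrix.sub_mulVec, Matrix.one_mulVec, Matrix.smul_mulVec, sub_eq_zero] at e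
  rw [wMat_eq]
  exact e.symm

theorem ords_of_vec (hr : r ≠ 2) {x : ZMod r} (w : List (Fin 4)) {v : Fin 4 → ZMod r}
    (hv : v ≠ 0) (h : x • ((wMat chevF4 w).map (Int.cast : ℤ → ZMod r)).mulVec v = v)
    {p : List ℤ × List ℕ} (hp : p ∈ table) (hpw : p.1 = (word w).poly) :
    orderOf x ∈ p.2.flatMap ordsOf := by
  rw [wMat_eq] at h
  have h0 : (1 - x • (word w).toMat.map (Int.cast : ℤ → ZMod r)).det = 0 :=
    Matrix.exists_mulVec_eq_zero_iff.1 ⟨v, hv, by
      rw [Matrix.sub_mulVec, Matrix.one_mulVec, Matrix.smul_mulVec]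
      exact sub_eq_zero.2 h.symm⟩
  rw [ev_root (ds := p.2) (by rw [← hpw]; exact hp), List.prod_eq_zero_iff, List.mem_map] at h0
  obtain ⟨d, hd, e⟩ := h0
  exact List.mem_flatMap.2 ⟨d, hd, orderOf_of_phiEv hr
    (List.contains_iff_mem.1 (List.all_eq_true.1 (List.all_eq_true.1 table_ords p hp) d hd)) e⟩

end Orders

/-- A list as a vector. -/
def vecOf {r : ℕ} (f : List ℤ) : Fin 4 → ZMod r := fun i => ((f.getD i 0 : ℤ) : ZMod r)

section Orders

variable {r : ℕ} [Fact r.Prime]

theorem rowMul_dot (a b c d : ℤ) (X : M4) (v : Fin 4 → ZMod r) :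
    dotProduct (vecOf (rowMul [a, b, c, d] X)) v =
      dotProduct (vecOf [a, b, c, d]) ((X.toMat.map (Int.cast : ℤ → ZMod r)).mulVec v) := by
  simp [vecOf, rowMul, dotProduct, Matrix.mulVec, M4.toMat, Fin.sum_univ_succ]
  ring

/-- An eigenvector of a regular element is orthogonal to no root. -/
theorem form_dot_ne_zero {x : ZMod r} (hx : x ≠ 0) (hr13 : 13 ≤ r) {w : List (Fin 4)}
    {v : Fin 4 → ZMod r} (hv : v ≠ 0)
    (h : x • ((word w).toMat.map (Int.cast : ℤ → ZMod r)).mulVec v = v) (a b c d : ℤ)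
    (hpos : 0 < (M4.det4 (orbitM [a, b, c, d] (word w))).natAbs)
    (hlt : (M4.det4 (orbitM [a, b, c, d] (word w))).natAbs < 13) :
    dotProduct (vecOf [a, b, c, d]) v ≠ 0 := by
  intro h0
  set X := word w with hX
  have hstep : ∀ a b c d : ℤ, dotProduct (vecOf [a, b, c, d]) v = 0 →
      dotProduct (vecOf (r := r) (rowMul [a, b, c, d] X)) v = 0 := by
    intro a b c d e
    rw [rowMul_dot]
    rw [← h, dotProduct_smul, smul_eq_mul] at e
    exact (mul_eq_zero.1 e).resolve_left hx
  have h1 := hstep _ _ _ _ h0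
  have h2 := hstep _ _ _ _ h1
  have h3 := hstep _ _ _ _ h2
  set O := orbitM [a, b, c, d] X with hO
  have hO' : (O.toMat.map (Int.cast : ℤ → ZMod r)).mulVec v = 0 := by
    funext i
    fin_cases i
    · refine Eq.trans ?_ h0
      simp [hO, orbitM, rowMul, M4.toMat, Matrix.mulVec, dotProduct, vecOf, Fin.sum_univ_succ]
    · refine Eq.trans ?_ h1
      simp [hO, orbitM, rowMul, M4.toMat, Matrix.mulVec, dotProduct, vecOf, Fin.sum_univ_succ]
    · refine Eq.trans ?_ h2
      simp [hO, orbitM, rowMul, M4.toMat, Matrix.mulVec, dotProduct, vecOf, Fin.sum_univ_succ]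
    · refine Eq.trans ?_ h3
      simp [hO, orbitM, rowMul, M4.toMat, Matrix.mulVec, dotProduct, vecOf, Fin.sum_univ_succ]
  have hdet := Matrix.exists_mulVec_eq_zero_iff.1 ⟨v, hv, hO'⟩
  rw [M4.det_toMat_cast, ZMod.intCast_zmod_eq_zero_iff_dvd] at hdet
  have := Nat.le_of_dvd hpos (Int.natCast_dvd.1 hdet)
  omega

end Orders

theorem chiU_zeta {K : Type u} [Field K] {N : ℕ} {ζ : Kˣ} (hζ : IsPrimitiveRoot ζ N)
    (v : Fin 4 → ℤ) (s : Fin chevF4.nroots) :
    chiU (D := chevF4) (fun i => ζ ^ v i) (s : ℕ) = 1 ↔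
      dotProduct (vecOf (r := N) (forms.getD (s : ℕ) [])) (fun i => (v i : ZMod N)) = 0 := by
  have h1 : chiU (D := chevF4) (fun i => ζ ^ v i) (s : ℕ) =
      ∏ i : Fin 4, ζ ^ (v i * chevF4.cartan (i : ℕ) (s : ℕ)) :=
    Finset.prod_congr rfl fun i _ => (zpow_mul ζ _ _).symm
  rw [h1, ← zpow_finset_sum, hζ.zpow_eq_one_iff_dvd, ← ZMod.intCast_zmod_eq_zero_iff_dvd,
    forms_eq]
  simp [vecOf, dotProduct, Fin.sum_univ_succ, mul_comm]

section Main

variable {F : Type u} [Field F] [Fintype F]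

theorem exists_setup {q : ℕ} (hq : Fintype.card F = q) [CharP F 2] :
    ∃ (k : Type u) (_ : Field k) (_ : IsAlgClosed k) (_ : CharP k 2) (σ : k →+* k)
      (ι : F →+* k), Setup chevF4 alcoveF4 1 q σ ι := by
  classical
  have hq2 : 2 ≤ q := hq ▸ Fintype.one_lt_card
  let k := AlgebraicClosure F
  let ι : F →+* k := algebraMap F k
  let σ : k →+* k := (FiniteField.frobeniusAlgHom F k).toRingHom
  have hσ : ∀ t : k, σ t = t ^ q := fun t => by
    show FiniteField.frobeniusAlgHom F k t = _
    simp [hq]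
  have hchar : CharP k 2 := (RingHom.charP_iff ι ι.injective 2).1 inferInstance
  refine ⟨k, inferInstance, inferInstance, hchar, σ, ι,
    facts_chevF4, alcoveF4_valid, one_pos, alcoveF4_valid.cartanInv rfl, hq2,
    Nat.coprime_one_left _, hσ, ?_,
    fun a => (FiniteField.frobeniusAlgHom F k).commutes a, fun z hz => ?_, fun u => ?_⟩
  · rw [← map_natCast ι, ← hq, FiniteField.cast_card_eq_zero, map_zero]
  · rw [hσ] at hz
    open Polynomial in
    have hroots : z ∈ ((Finset.univ.image ι).val : Multiset k) := by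
      have hdeg : ((X : k[X]) ^ q - X).natDegree = q :=
        FiniteField.X_pow_card_sub_X_natDegree_eq k hq2
      have hne : ((X : k[X]) ^ q - X) ≠ 0 := FiniteField.X_pow_card_sub_X_ne_zero k hq2
      have heq : (Finset.univ.image ι).val = ((X : k[X]) ^ q - X).roots := by
        refine Multiset.eq_of_le_of_card_le
          ((Multiset.le_iff_subset (Finset.nodup _)).2 fun x hx => ?_) ?_
        · obtain ⟨a, -, rfl⟩ := Finset.mem_image.1 hx
          rw [mem_roots hne, IsRoot.def, eval_sub, eval_pow, eval_X, ← map_pow, ← hq,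
            FiniteField.pow_card, sub_self]
        · refine le_trans (card_roots' _) ?_
          rw [hdeg, Finset.card_val, Finset.card_image_of_injective _ ι.injective,
            Finset.card_univ, hq]
      rw [heq, mem_roots hne, IsRoot.def, eval_sub, eval_pow, eval_X, hz, sub_self]
    obtain ⟨a, -, ha⟩ := Finset.mem_image.1 hroots
    exact ⟨a, ha⟩
  · let E := IntermediateField.adjoin F ({(u : k)} : Set k)
    haveI : FiniteDimensional F E :=
      IntermediateField.adjoin.finiteDimensional (Algebra.IsIntegral.isIntegral (u : k))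
    haveI : Finite E := Module.finite_of_finite F
    haveI : Fintype E := Fintype.ofFinite E
    refine ⟨Fintype.card E - 1, ?_, Units.ext ?_⟩
    · have h1 : ((Fintype.card E : ℕ) : k) = 0 := by
        rw [← map_natCast (algebraMap E k), FiniteField.cast_card_eq_zero, map_zero]
      rw [Nat.cast_sub (Fintype.card_pos : 0 < Fintype.card E), h1, Nat.cast_one, zero_sub]
      exact neg_ne_zero.2 one_ne_zero
    · have hm : (u : k) ∈ E :=
        IntermediateField.subset_adjoin F _ (Set.mem_singleton _)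
      have h2 : (⟨(u : k), hm⟩ : E) ^ (Fintype.card E - 1) = 1 :=
        FiniteField.pow_card_sub_one_eq_one _ fun h => u.ne_zero (congrArg Subtype.val h)
      rw [Units.val_pow_eq_pow_val, Units.val_one]
      simpa using congrArg Subtype.val h2

theorem natCast_ne_zero {k : Type u} [Field k] [CharP k 2] {s : ℕ} (hs : s.Prime) (hs2 : s ≠ 2) :
    (s : k) ≠ 0 := fun h =>
  hs2 ((Nat.prime_dvd_prime_iff_eq Nat.prime_two hs).1 ((CharP.cast_eq_zero_iff k 2 s).1 h)).symm

variable [CharP F 2] {q : ℕ} (hq : Fintype.card F = q)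
include hq

theorem exists_of_good {r s : ℕ} [Fact r.Prime] [Fact s.Prime] (hr : r ≠ 2) (hs : s ≠ 2)
    (hrs : r ≠ s) (her : orderOf (q : ZMod r) ∈ ordList) (hes : orderOf (q : ZMod s) ∈ ordList)
    (hgood : badB (orderOf (q : ZMod r)) (orderOf (q : ZMod s)) = false) :
    ∃ x : ↥(chevF4.group F), orderOf x = r * s := by
  obtain ⟨k, _, _, _, σ, ι, S⟩ := exists_setup (F := F) hq
  obtain ⟨p, hp, hpr, hps⟩ := witnesses_cover _ her _ hes hgood
  obtain ⟨v, hv, hvf⟩ := exists_vec (witnesses_table p hp) hpr rfl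
  obtain ⟨v', hv', hvf'⟩ := exists_vec (witnesses_table p hp) hps rfl
  haveI : NeZero (r : k) := ⟨natCast_ne_zero Fact.out hr⟩
  haveI : NeZero (s : k) := ⟨natCast_ne_zero Fact.out hs⟩
  haveI : NeZero r := ⟨(Fact.out : r.Prime).ne_zero⟩
  haveI : NeZero s := ⟨(Fact.out : s.Prime).ne_zero⟩
  obtain ⟨z, hz⟩ := HasEnoughRootsOfUnity.exists_primitiveRoot k r
  obtain ⟨z', hz'⟩ := HasEnoughRootsOfUnity.exists_primitiveRoot k s
  have hζ : IsPrimitiveRoot (hz.isUnit (NeZero.ne r)).unit r := IsPrimitiveRoot.coe_units_iff.1 hz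
  have hζ' : IsPrimitiveRoot (hz'.isUnit (NeZero.ne s)).unit s :=
    IsPrimitiveRoot.coe_units_iff.1 hz'
  obtain ⟨h1, h2⟩ := S.exists_torus_elem hζ (p.1 : List (Fin chevF4.rank)) hv hvf
  obtain ⟨h1', h2'⟩ := S.exists_torus_elem hζ' (p.1 : List (Fin chevF4.rank)) hv' hvf'
  set U : List (Fin chevF4.rank) := p.1
  set c : Fin chevF4.rank → kˣ := fun i => (hz.isUnit (NeZero.ne r)).unit ^ ((v i).val : ℤ)
  set c' : Fin chevF4.rank → kˣ := fun i => (hz'.isUnit (NeZero.ne s)).unit ^ ((v' i).val : ℤ)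
  obtain ⟨h, hh⟩ := S.exists_inClass (c := c * c')
    ⟨U, ((congrArg (wordC chevF4 U) (mul_pow c c' q)).trans (wordC_mul (D := chevF4) U _ _)).trans
      (by rw [h1, h1'])⟩
  refine ⟨h, ?_⟩
  rw [S.orderOf_of_inClass hh, (Commute.all c c').orderOf_mul_eq_mul_orderOf_of_coprime
    (by rw [h2, h2']; exact (Nat.coprime_primes Fact.out Fact.out).2 hrs), h2, h2']

theorem exists_of_two {s : ℕ} [Fact s.Prime] (hs : s ≠ 2)
    (hes : orderOf (q : ZMod s) ∈ ([1, 2, 3, 4, 6] : List ℕ)) :
    ∃ x : ↥(chevF4.group F), orderOf x = 2 * s := by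
  obtain ⟨k, _, _, _, σ, ι, S⟩ := exists_setup (F := F) hq
  haveI : NeZero (s : k) := ⟨natCast_ne_zero Fact.out hs⟩
  haveI : NeZero s := ⟨(Fact.out : s.Prime).ne_zero⟩
  obtain ⟨z, hz⟩ := HasEnoughRootsOfUnity.exists_primitiveRoot k s
  have hζ : IsPrimitiveRoot (hz.isUnit (NeZero.ne s)).unit s := IsPrimitiveRoot.coe_units_iff.1 hz
  have key : ∀ (u : List (Fin chevF4.rank)) (v : Fin 4 → ZMod s) (ro : Fin chevF4.nroots), v ≠ 0 →
      (q : ZMod s) • ((wMat chevF4 u).map (Int.cast : ℤ → ZMod s)).mulVec v = v →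
      dotProduct (vecOf (r := s) (forms.getD (ro : ℕ) [])) v = 0 →
      wStep chevF4 u (ro : ℕ) = (ro : ℕ) → ∃ x : ↥(chevF4.group F), orderOf x = 2 * s := by
    intro u v ro hv hvf hdot hwr
    obtain ⟨h1, h2⟩ := S.exists_torus_elem hζ (u : List (Fin chevF4.rank)) hv hvf
    obtain ⟨x, hx⟩ := S.exists_order_two_mul h1
      (by rw [h2]; exact (Fact.out : s.Prime).odd_of_ne_two hs) ro
      (Fin.ext (by rw [pWord_wStep]; exact hwr))
      ((chiU_zeta hζ _ ro).2 (by simpa using hdot))
    exact ⟨x, by rw [hx, h2]⟩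
  by_cases h1 : orderOf (q : ZMod s) = 1
  · refine key [] (Pi.single 2 1) ⟨chevF4.simple 0, simple_zero.1⟩ (by simp) ?_ ?_ simple_zero.2.2
    · have e : (q : ZMod s) = 1 := orderOf_eq_one_iff.1 h1
      rw [e, one_smul]
      exact (congrArg (fun M : Matrix (Fin 4) (Fin 4) ℤ =>
        (M.map (Int.cast : ℤ → ZMod s)).mulVec (Pi.single 2 1))
          ((wMat_eq []).trans toMat_one4)).trans
          (by rw [Matrix.map_one _ Int.cast_zero Int.cast_one, Matrix.one_mulVec])
    · rw [forms_eq, dotProduct_single]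
      simp [vecOf, simple_zero.2.1]
  · have he : orderOf (q : ZMod s) ∈ ([2, 3, 4, 6] : List ℕ) := by
      simp only [List.mem_cons, List.not_mem_nil, or_false] at hes ⊢; tauto
    obtain ⟨p, hp, hpe⟩ := fixedWitnesses_cover _ he
    obtain ⟨htab, hro, hfM, hst⟩ := fixedWitnesses_spec p hp
    obtain ⟨v, hv, hvf⟩ := exists_vec htab hpe rfl
    refine key p.1 v ⟨p.2.2, hro⟩ hv hvf ?_ hst
    have hne : (q : ZMod s) - 1 ≠ 0 := sub_ne_zero.2 fun e => h1 (orderOf_eq_one_iff.2 e)
    refine (mul_eq_zero.1 (show ((q : ZMod s) - 1) *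
      dotProduct (vecOf (r := s) (forms.getD p.2.2 [])) v = 0 from ?_)).resolve_left hne
    have h4 := rowMul_dot (chevF4.cartan 0 p.2.2) (chevF4.cartan 1 p.2.2) (chevF4.cartan 2 p.2.2)
      (chevF4.cartan 3 p.2.2) (word p.1) v
    rw [← forms_eq ⟨p.2.2, hro⟩] at h4
    simp only at h4
    rw [hfM] at h4
    have h5 : dotProduct (vecOf (r := s) (forms.getD p.2.2 [])) v =
        (q : ZMod s) * dotProduct (vecOf (r := s) (forms.getD p.2.2 [])) v := by
      conv_lhs => rw [← (mulVec_conv p.1 (q : ZMod s) v).symm.trans hvf]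
      rw [dotProduct_smul, smul_eq_mul, ← h4]
    linear_combination -h5

theorem not_exists_of_bad {r s : ℕ} [Fact r.Prime] [Fact s.Prime] (hr : r ≠ 2) (hs : s ≠ 2)
    (hrs : r ≠ s) (hbad : badB (orderOf (q : ZMod r)) (orderOf (q : ZMod s)) = true) :
    ¬ ∃ x : ↥(chevF4.group F), orderOf x = r * s := by
  rintro ⟨x, hx⟩
  obtain ⟨k, _, _, _, σ, ι, S⟩ := exists_setup (F := F) hq
  haveI : Fact (Nat.Prime 2) := ⟨Nat.prime_two⟩
  have hro := (Fact.out : r.Prime).odd_of_ne_two hr
  have hso := (Fact.out : s.Prime).odd_of_ne_two hs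
  obtain ⟨c, ⟨u, hu⟩, hh⟩ := S.exists_stable 2 (h := x)
    (orderOf_pos_iff.1 (by
      rw [hx]; exact Nat.mul_pos (Fact.out : r.Prime).pos (Fact.out : s.Prime).pos))
    (by rw [hx]; exact Nat.coprime_two_right.2 (hro.mul hso))
  have hc : orderOf c = r * s := (S.orderOf_of_inClass hh).symm.trans hx
  have main : ∀ (a b : ℕ) [Fact a.Prime] [Fact b.Prime], a ≠ 2 → orderOf c = a * b →
      ∀ p ∈ table, p.1 = (word u).poly → orderOf (q : ZMod a) ∈ p.2.flatMap ordsOf := by
    intro a b _ _ ha hab p hp hpu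
    have hfix : wordC chevF4 u ((c ^ b) ^ q) = c ^ b := by
      rw [← pow_mul, mul_comm, pow_mul, wordC_pow, hu]
    have hne : c ^ b ≠ 1 := fun e => by
      have h := Nat.le_of_dvd (Fact.out : b.Prime).pos (hab ▸ orderOf_dvd_of_pow_eq_one e)
      exact absurd h (not_le.2 ((Nat.lt_mul_iff_one_lt_left (Fact.out : b.Prime).pos).2
        (Fact.out : a.Prime).one_lt))
    obtain ⟨ζ, v, -, -, hv, hvf⟩ := S.exists_eigen (natCast_ne_zero Fact.out ha) hfix
      (by rw [← pow_mul, mul_comm, ← hab, pow_orderOf_eq_one]) hne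
    exact ords_of_vec ha (u : List (Fin 4)) hv hvf hp hpu
  obtain ⟨p, hp, hpu, -⟩ := exists_entry (u : List (Fin 4))
  have h1 := main r s hr hc p hp hpu
  have h2 := main s r hs (by rw [hc, mul_comm]) p hp hpu
  have h3 := List.all_eq_true.1 (List.all_eq_true.1 (List.all_eq_true.1 table_pairs p hp) _ h1) _ h2
  simp [hbad] at h3

theorem not_exists_of_two {s : ℕ} [Fact s.Prime] (hs : s ≠ 2)
    (hes : orderOf (q : ZMod s) = 8 ∨ orderOf (q : ZMod s) = 12) :
    ¬ ∃ x : ↥(chevF4.group F), orderOf x = 2 * s := by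
  rintro ⟨x, hx⟩
  obtain ⟨k, _, _, _, σ, ι, S⟩ := exists_setup (F := F) hq
  haveI : Fact (Nat.Prime 2) := ⟨Nat.prime_two⟩
  have hsp : s.Prime := Fact.out
  have hso := hsp.odd_of_ne_two hs
  have hx2 : orderOf (x ^ 2) = s := by
    rw [orderOf_pow' x two_ne_zero, hx, Nat.gcd_mul_right_left, Nat.mul_div_cancel_left _ two_pos]
  obtain ⟨c, ⟨u, hu⟩, g, hg, hgc⟩ := S.exists_stable 2 (h := x ^ 2)
    (orderOf_pos_iff.1 (by rw [hx2]; exact hsp.pos))
    (by rw [hx2]; exact Nat.coprime_two_right.2 hso)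
  have hc : orderOf c = s := (S.orderOf_of_inClass ⟨g, hg, hgc⟩).symm.trans hx2
  obtain ⟨ζ, v, hζ, hcv, hv, hvf⟩ := S.exists_eigen (natCast_ne_zero hsp hs) hu
    (by rw [← hc]; exact pow_orderOf_eq_one c)
    (fun e => by rw [e, orderOf_one] at hc; exact hsp.ne_one hc.symm)
  obtain ⟨p, hp, hpu, hdet⟩ := exists_entry (u : List (Fin 4))
  have he := ords_of_vec hs (u : List (Fin 4)) hv hvf hp hpu
  have hp8 : p.2 = [8] ∨ p.2 = [12] := by
    have h := List.all_eq_true.1 (List.all_eq_true.1 table_regular p hp) _ he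
    rcases hes with e | e <;> simpa [e] using h
  have hq0 : (q : ZMod s) ≠ 0 := fun e => by
    rw [e, orderOf_zero] at hes; omega
  have h13 : 13 ≤ s := by
    have hd := ZMod.orderOf_dvd_card_sub_one hq0
    have h2 := hsp.two_le
    by_contra hlt
    rcases hes with e | e <;> rw [e] at hd
    · obtain rfl : s = 9 := by
        obtain ⟨m, hm⟩ := hd; interval_cases s <;> omega
      norm_num at hsp
    · obtain ⟨m, hm⟩ := hd; interval_cases s <;> omega
  have hreg : ∀ ro : Fin chevF4.nroots, chiU c (ro : ℕ) ≠ 1 := by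
    intro ro hch
    rw [hcv] at hch
    have hdot := (chiU_zeta hζ v ro).1 hch
    obtain ⟨hidx, hline⟩ := lineIdx_spec ro
    have hbound := hdet hp8 _ hidx
    have hvf' : (q : ZMod s) • ((word u).toMat.map (Int.cast : ℤ → ZMod s)).mulVec
        (fun i => (v i : ZMod s)) = fun i => (v i : ZMod s) :=
      (mulVec_conv u (q : ZMod s) _).symm.trans hvf
    rw [forms_eq] at hline hdot
    rcases hline with e | e <;> rw [e] at hbound
    · exact form_dot_ne_zero hq0 h13 hv hvf' _ _ _ _ hbound.1 hbound.2 hdot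
    · refine form_dot_ne_zero hq0 h13 hv hvf' _ _ _ _ hbound.1 hbound.2 ?_
      rw [← neg_zero, ← hdot]
      simp [vecOf, dotProduct, Fin.sum_univ_succ]
      ring
  set X := gmap chevF4 ι (x : GL chevF4.Idx F) with hX
  have hXG : X ∈ chevF4.group k := gmap_mem_group S.facts S.facts ι x.2
  have hy : (g⁻¹ * X * g) ^ s = 1 := by
    refine S.eq_one_of_regular hreg (Subgroup.pow_mem _
      (Subgroup.mul_mem _ (Subgroup.mul_mem _ (Subgroup.inv_mem _ hg) hXG) hg) _) ?_ ?_
    · have e : torusHom c = (g⁻¹ * X * g) ^ 2 := by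
        rw [sq, show g⁻¹ * X * g * (g⁻¹ * X * g) = g⁻¹ * (X * X) * g by group, hX, ← map_mul,
          ← Subgroup.coe_mul, ← sq, hgc]
        group
      rw [e, ← pow_add, ← pow_add, add_comm]
    · rw [← pow_mul, mul_comm, ← hx, show g⁻¹ * X * g = g⁻¹ * X * g⁻¹⁻¹ by rw [inv_inv], conj_pow,
        hX, ← map_pow, ← Subgroup.coe_pow, pow_orderOf_eq_one, Subgroup.coe_one, map_one]
      group
  have hXs : x ^ s = 1 := by
    rw [show g⁻¹ * X * g = g⁻¹ * X * g⁻¹⁻¹ by rw [inv_inv], conj_pow, conj_eq_one_iff] at hy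
    refine Subtype.ext (gmap_injective ι ?_)
    rw [Subgroup.coe_pow, Subgroup.coe_one, map_pow, map_one]
    exact hy
  have := Nat.le_of_dvd hsp.pos (hx ▸ orderOf_dvd_of_pow_eq_one hXs)
  have := hsp.pos
  omega

end Main

end Cfsg.Agent.F4Graph
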