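import Cfsg.Agent.Chev.Semisimple.Classes

/-!
Elements of prime order in tori twisted by Weyl elements, and the involutions commuting with them
in even characteristic, when the torus is embedded faithfully.
-/

set_option autoImplicit false

namespace Cfsg.Agent.Chev.SS

open Cfsg.Lie
open scoped MatrixGroups

universe u

variable {D : ChevalleyDatum} {F k : Type u} [Field F] [Field k]
variable {C : Alcove D} {q : ℕ} {σ : k →+* k} {ι : F →+* k} (S : Setup D C 1 q σ ι)
include S

theorem Setup.torusHom_inj :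
    Function.Injective (torusHom : (Fin D.rank → kˣ) →* GL D.Idx k) := by
  rw [injective_iff_map_eq_one]
  intro c hc
  funext a
  simpa using pow_eq_one_of_torusHom_eq_one S.facts S.inv hc a

theorem Setup.orderOf_of_inClass {c : Fin D.rank → kˣ} {h : ↥(D.group F)}
    (hh : InClass ι c h) : orderOf h = orderOf c := by
  obtain ⟨g, -, hg⟩ := hh
  have h1 : orderOf (gmap D ι (h : GL D.Idx F)) = orderOf h := by
    rw [orderOf_injective (gmap D ι) (gmap_injective ι), Subgroup.orderOf_coe]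
  rw [← h1, hg]
  exact (orderOf_injective (MulAut.conj g).toMonoidHom (MulAut.conj g).injective (torusHom c)).trans
    (orderOf_injective torusHom S.torusHom_inj c)

theorem Setup.wordC_fix_iff {N : ℕ} {ζ : kˣ} (hζ : IsPrimitiveRoot ζ N) (u : List (Fin D.rank))
    (v : Fin D.rank → ℤ) :
    wordC D u ((fun i => ζ ^ v i) ^ q) = (fun i => ζ ^ v i) ↔
      (q : ZMod N) • ((wMat D u).map Int.cast).mulVec (fun i => (v i : ZMod N)) =
        fun i => (v i : ZMod N) := by
  have heq : ∀ a b : ℤ, ζ ^ a = ζ ^ b ↔ ((a : ℤ) : ZMod N) = b := fun a b => by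
    rw [ZMod.intCast_eq_intCast_iff_dvd_sub, ← hζ.zpow_eq_one_iff_dvd, zpow_sub, mul_inv_eq_one]
    exact eq_comm
  have hpow : (fun i => ζ ^ v i) ^ q = fun i => ζ ^ ((q : ℤ) * v i) := by
    funext i
    rw [Pi.pow_apply, ← zpow_natCast, ← zpow_mul, mul_comm]
  rw [hpow, Eigen.wordC_zpow, ← wMat_mulVec, funext_iff, funext_iff]
  refine forall_congr' fun i => ?_
  rw [heq]
  simp only [Matrix.mulVec, dotProduct, Pi.smul_apply, smul_eq_mul, Matrix.map_apply]
  push_cast
  rw [Finset.mul_sum]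
  simp only [mul_left_comm]

/-- A stable torus element of prime order from an eigenvector. -/
theorem Setup.exists_torus_elem {s : ℕ} [Fact s.Prime] {ζ : kˣ} (hζ : IsPrimitiveRoot ζ s)
    (u : List (Fin D.rank)) {v : Fin D.rank → ZMod s} (hv : v ≠ 0)
    (hfix : (q : ZMod s) • ((wMat D u).map Int.cast).mulVec v = v) :
    wordC D u ((fun i => ζ ^ ((v i).val : ℤ)) ^ q) = (fun i => ζ ^ ((v i).val : ℤ)) ∧
      orderOf (fun i => ζ ^ ((v i).val : ℤ)) = s := by
  refine ⟨(S.wordC_fix_iff hζ u _).2 (by simpa using hfix), ?_⟩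
  refine orderOf_eq_prime ?_ fun h => hv ?_
  · funext i
    rw [Pi.pow_apply, ← zpow_natCast, ← zpow_mul, mul_comm, zpow_mul, zpow_natCast ζ s,
      hζ.pow_eq_one, one_zpow, Pi.one_apply]
  · funext i
    have := congrFun h i
    rw [Pi.one_apply, hζ.zpow_eq_one_iff_dvd, ← ZMod.intCast_zmod_eq_zero_iff_dvd] at this
    simpa using this

theorem Setup.exists_eigen {s : ℕ} [Fact s.Prime] (hs : (s : k) ≠ 0)
    {u : List (Fin D.rank)} {c : Fin D.rank → kˣ} (hfix : wordC D u (c ^ q) = c)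
    (hc : c ^ s = 1) (hc1 : c ≠ 1) [IsAlgClosed k] :
    ∃ (ζ : kˣ) (v : Fin D.rank → ℤ), IsPrimitiveRoot ζ s ∧ c = (fun i => ζ ^ v i) ∧
      (fun i => (v i : ZMod s)) ≠ 0 ∧
      (q : ZMod s) • ((wMat D u).map Int.cast).mulVec (fun i => (v i : ZMod s)) =
        fun i => (v i : ZMod s) := by
  haveI : NeZero (s : k) := ⟨hs⟩
  haveI : NeZero s := ⟨(Fact.out : s.Prime).ne_zero⟩
  obtain ⟨z, hz⟩ := HasEnoughRootsOfUnity.exists_primitiveRoot k s
  set ζ : kˣ := (hz.isUnit (NeZero.ne s)).unit with hζdef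
  have hζ : IsPrimitiveRoot ζ s := IsPrimitiveRoot.coe_units_iff.1 hz
  have hexp : ∀ i, ∃ x : ℤ, c i = ζ ^ x := by
    intro i
    have h3 : (c i : k) ^ s = 1 := by
      rw [← Units.val_pow_eq_pow_val, ← Pi.pow_apply, hc, Pi.one_apply, Units.val_one]
    obtain ⟨j, -, hj⟩ := hz.eq_pow_of_pow_eq_one h3
    exact ⟨j, Units.ext (by rw [zpow_natCast, Units.val_pow_eq_pow_val]; exact hj.symm)⟩
  choose v hv using hexp
  have hcv : c = fun i => ζ ^ v i := funext hv
  refine ⟨ζ, v, hζ, hcv, fun h => hc1 ?_, (S.wordC_fix_iff hζ u v).1 (by rw [← hcv, hfix])⟩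
  funext i
  rw [hv, Pi.one_apply, hζ.zpow_eq_one_iff_dvd, ← ZMod.intCast_zmod_eq_zero_iff_dvd]
  exact congrFun h i

/-- A fixed root of the twisting element, trivial at the torus element, gives an involution
commuting with it. -/
theorem Setup.exists_order_two_mul [CharP k 2] [IsAlgClosed k] {c : Fin D.rank → kˣ}
    {u : List (Fin D.rank)} (hu : wordC D u (c ^ q) = c) (hodd : Odd (orderOf c))
    (r : Fin D.nroots) (hr : pWord S.facts u r = r) (hc : chiU c (r : ℕ) = 1) :
    ∃ z : ↥(D.group F), orderOf z = 2 * orderOf c := by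
  have hF := S.facts
  obtain ⟨g, hg, hgσ⟩ := exists_lang hF S.two_le σ S.frob (S.nWord_mem_group u)
  set ν : GL D.Idx k := nWord hF u with hν
  obtain ⟨η, hη0, hη⟩ := isMon_nWord hF u (F := k) r
  rw [hr] at hη
  obtain ⟨t, ht⟩ := IsAlgClosed.exists_pow_nat_eq η⁻¹
    (show 0 < q - 1 by have := S.two_le; omega)
  have ht0 : t ≠ 0 := fun h => inv_ne_zero hη0 (by
    rw [← ht, h, zero_pow (by have := S.two_le; omega)])
  have htq : η * σ t = t := by
    rw [S.frob, show q = (q - 1) + 1 by have := S.two_le; omega, pow_succ, ht, ← mul_assoc,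
      mul_inv_cancel₀ hη0, one_mul]
  set x : GL D.Idx k := g * torusHom c * g⁻¹ with hxdef
  set y : GL D.Idx k := g * xG hF (r : ℕ) t * g⁻¹ with hydef
  have hxfix : gmap D σ x = x := by
    have hk : torusHom c * ν = ν * torusHom (c ^ q) := by
      rw [hν, ← torusHom_wordC hF, hu]
    rw [hxdef, map_mul, map_mul, map_inv, hgσ, S.gmap_torus, mul_assoc g, ← hk]
    group
  have hyfix : gmap D σ y = y := by
    rw [hydef, map_mul, map_mul, map_inv, hgσ, gmap_xG hF hF, mul_assoc g, hν, hη, htq]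
    group
  have hxy : Commute x y := by
    have h : Commute (torusHom c : GL D.Idx k) (xG hF (r : ℕ) t) := by
      have e := torusHom_conj hF c r.2 t
      rw [hc, Units.val_one, one_mul] at e
      exact e
    exact h.map (MulAut.conj g).toMonoidHom
  have hy2 : orderOf y = 2 := by
    refine orderOf_eq_prime ?_ fun h => ht0 ((xG_eq_one_iff hF r.2).1 ?_)
    · rw [hydef, conj_pow, sq]
      have e : xG hF (r : ℕ) t * xG hF (r : ℕ) t = (1 : GL D.Idx k) := by
        rw [xG_mul, CharTwo.add_self_eq_zero, xG_zero]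
      rw [e]; group
    · exact (conj_eq_one_iff).1 h
  have hx : orderOf x = orderOf c :=
    (orderOf_injective (MulAut.conj g).toMonoidHom (MulAut.conj g).injective (torusHom c)).trans
      (orderOf_injective torusHom S.torusHom_inj c)
  have hz : orderOf (x * y) = 2 * orderOf c := by
    rw [hxy.orderOf_mul_eq_mul_orderOf_of_coprime (by
      rw [hx, hy2]; exact Nat.coprime_two_right.2 hodd), hx, hy2, mul_comm]
  have hmemx : x ∈ D.group k :=
    Subgroup.mul_mem _ (Subgroup.mul_mem _ hg (S.torus_mem_group c)) (Subgroup.inv_mem _ hg)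
  have hmemy : y ∈ D.group k :=
    Subgroup.mul_mem _ (Subgroup.mul_mem _ hg (xG_mem_group hF _ _)) (Subgroup.inv_mem _ hg)
  obtain ⟨z, hze⟩ := S.exists_mem_of_fixed (Subgroup.mul_mem _ hmemx hmemy)
    (by rw [map_mul, hxfix, hyfix])
  refine ⟨z, ?_⟩
  rw [← hz, ← hze, orderOf_injective (gmap D ι) (gmap_injective ι), Subgroup.orderOf_coe]

/-- No involution commutes with a regular semisimple element in even characteristic. -/
theorem Setup.eq_one_of_regular [CharP k 2] [IsAlgClosed k] {c : Fin D.rank → kˣ}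
    (hreg : ∀ r : Fin D.nroots, chiU c (r : ℕ) ≠ 1) {y : GL D.Idx k} (hy : y ∈ D.group k)
    (hcy : torusHom c * y = y * torusHom c) (hy2 : y ^ 2 = 1) : y = 1 := by
  have hF := S.facts
  obtain ⟨l₁, hl₁, l₂, hl₂, d, w, rfl, hw⟩ := exists_decomp hF hy hcy
  rw [centRoots_eq_bot hF hreg, Subgroup.mem_bot] at hl₁ hl₂
  subst hl₁ hl₂
  rw [one_mul, mul_one] at hy2 ⊢
  have hwc : wordC D w c = c := by
    refine S.torusHom_inj (torusHom_eq_of_chiU_eq fun s => ?_)
    obtain ⟨r, rfl⟩ := (pWord hF w).surjective s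
    rw [chiU_wordC hF, hw]
  obtain ⟨a, ha, -, haπ⟩ := exists_mon_centRoots hF S.valid S.tor hwc
  rw [centRoots_eq_bot hF hreg, Subgroup.mem_bot] at ha
  subst ha
  have hπ : pWord hF w = 1 := (monPerm_eq hF haπ).symm.trans (monPerm_eq hF (isMon_one hF))
  obtain ⟨d', hd'⟩ := (mem_diagonal_iff hF).1 (nWord_mem_diagonal hF w hπ (F := k))
  rw [← hd', ← map_mul] at hy2 ⊢
  rw [← map_pow] at hy2
  have h2 : (d * d') ^ 2 = 1 := S.torusHom_inj (by rw [hy2, map_one])
  have hone : d * d' = 1 := by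
    funext i
    have h := congrArg Units.val (congrFun h2 i)
    rw [Pi.pow_apply, Units.val_pow_eq_pow_val, Pi.one_apply, Units.val_one] at h
    refine Units.ext ?_
    have hz : ((((d * d') i : kˣ) : k) + 1) ^ 2 = 0 := by
      rw [CharTwo.add_sq, h, one_pow, CharTwo.add_self_eq_zero]
    have := pow_eq_zero_iff (n := 2) (by norm_num) |>.1 hz
    rwa [CharTwo.add_eq_zero] at this
  rw [hone, map_one]

end Cfsg.Agent.Chev.SS
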